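import Cfsg.Agent.Lib.Recog.SporBound.Fi22Outer.Cert.Split

set_option autoImplicit false
set_option maxRecDepth 20000
set_option Elab.async false

/-! Kernel check of quarter 1 of the classes of outer involutions of Fi22 over root 0 (owner: helper24, split by helper18). -/

namespace CfsgLib.Recog.SporBound.Fi22Outer

theorem cert01_0 : allFrom (certOK 0) (((qSeqs 5).drop 512).take 16) 512 = true := by
  decide +kernel

theorem cert01_1 : allFrom (certOK 0) (((qSeqs 5).drop 528).take 16) 528 = true := by
  decide +kernel

theorem cert01_2 : allFrom (certOK 0) (((qSeqs 5).drop 544).take 16) 544 = true := by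
  decide +kernel

theorem cert01_3 : allFrom (certOK 0) (((qSeqs 5).drop 560).take 16) 560 = true := by
  decide +kernel

theorem cert01_4 : allFrom (certOK 0) (((qSeqs 5).drop 576).take 16) 576 = true := by
  decide +kernel

theorem cert01_5 : allFrom (certOK 0) (((qSeqs 5).drop 592).take 16) 592 = true := by
  decide +kernel

theorem cert01_6 : allFrom (certOK 0) (((qSeqs 5).drop 608).take 16) 608 = true := by
  decide +kernel

theorem cert01_7 : allFrom (certOK 0) (((qSeqs 5).drop 624).take 16) 624 = true := by
  decide +kernel

theorem cert01_8 : allFrom (certOK 0) (((qSeqs 5).drop 640).take 16) 640 = true := by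
  decide +kernel

theorem cert01_9 : allFrom (certOK 0) (((qSeqs 5).drop 656).take 16) 656 = true := by
  decide +kernel

theorem cert01_10 : allFrom (certOK 0) (((qSeqs 5).drop 672).take 16) 672 = true := by
  decide +kernel

theorem cert01_11 : allFrom (certOK 0) (((qSeqs 5).drop 688).take 16) 688 = true := by
  decide +kernel

theorem cert01_12 : allFrom (certOK 0) (((qSeqs 5).drop 704).take 16) 704 = true := by
  decide +kernel

theorem cert01_13 : allFrom (certOK 0) (((qSeqs 5).drop 720).take 16) 720 = true := by
  decide +kernel

theorem cert01_14 : allFrom (certOK 0) (((qSeqs 5).drop 736).take 16) 736 = true := by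
  decide +kernel

theorem cert01_15 : allFrom (certOK 0) (((qSeqs 5).drop 752).take 16) 752 = true := by
  decide +kernel

theorem cert01_16 : allFrom (certOK 0) (((qSeqs 5).drop 768).take 16) 768 = true := by
  decide +kernel

theorem cert01_17 : allFrom (certOK 0) (((qSeqs 5).drop 784).take 16) 784 = true := by
  decide +kernel

theorem cert01_18 : allFrom (certOK 0) (((qSeqs 5).drop 800).take 16) 800 = true := by
  decide +kernel

theorem cert01_19 : allFrom (certOK 0) (((qSeqs 5).drop 816).take 16) 816 = true := by
  decide +kernel

theorem cert01_20 : allFrom (certOK 0) (((qSeqs 5).drop 832).take 16) 832 = true := by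
  decide +kernel

theorem cert01_21 : allFrom (certOK 0) (((qSeqs 5).drop 848).take 16) 848 = true := by
  decide +kernel

theorem cert01_22 : allFrom (certOK 0) (((qSeqs 5).drop 864).take 16) 864 = true := by
  decide +kernel

theorem cert01_23 : allFrom (certOK 0) (((qSeqs 5).drop 880).take 16) 880 = true := by
  decide +kernel

theorem cert01_24 : allFrom (certOK 0) (((qSeqs 5).drop 896).take 16) 896 = true := by
  decide +kernel

theorem cert01_25 : allFrom (certOK 0) (((qSeqs 5).drop 912).take 16) 912 = true := by
  decide +kernel

theorem cert01_26 : allFrom (certOK 0) (((qSeqs 5).drop 928).take 16) 928 = true := by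
  decide +kernel

theorem cert01_27 : allFrom (certOK 0) (((qSeqs 5).drop 944).take 16) 944 = true := by
  decide +kernel

theorem cert01_28 : allFrom (certOK 0) (((qSeqs 5).drop 960).take 16) 960 = true := by
  decide +kernel

theorem cert01_29 : allFrom (certOK 0) (((qSeqs 5).drop 976).take 16) 976 = true := by
  decide +kernel

theorem cert01_30 : allFrom (certOK 0) (((qSeqs 5).drop 992).take 16) 992 = true := by
  decide +kernel

theorem cert01_31 : allFrom (certOK 0) (((qSeqs 5).drop 1008).take 16) 1008 = true := by
  decide +kernel

theorem cert01 : certPart 0 1 = true := by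
  refine certPart_of_pieces 0 1 fun k hk => ?_
  interval_cases k
  · exact cert01_0
  · exact cert01_1
  · exact cert01_2
  · exact cert01_3
  · exact cert01_4
  · exact cert01_5
  · exact cert01_6
  · exact cert01_7
  · exact cert01_8
  · exact cert01_9
  · exact cert01_10
  · exact cert01_11
  · exact cert01_12
  · exact cert01_13
  · exact cert01_14
  · exact cert01_15
  · exact cert01_16
  · exact cert01_17
  · exact cert01_18
  · exact cert01_19
  · exact cert01_20
  · exact cert01_21
  · exact cert01_22
  · exact cert01_23
  · exact cert01_24
  · exact cert01_25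
  · exact cert01_26
  · exact cert01_27
  · exact cert01_28
  · exact cert01_29
  · exact cert01_30
  · exact cert01_31

end CfsgLib.Recog.SporBound.Fi22Outer
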