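import Cfsg.Agent.Lib.Recog.SporBound.Fi22Outer.Cert.Split

set_option autoImplicit false
set_option maxRecDepth 20000
set_option Elab.async false

/-! Kernel check of quarter 0 of the classes of outer involutions of Fi22 over root 1 (owner: helper24, split by helper18). -/

namespace CfsgLib.Recog.SporBound.Fi22Outer

theorem cert10_0 : allFrom (certOK 1) (((qSeqs 5).drop 0).take 16) 0 = true := by
  decide +kernel

theorem cert10_1 : allFrom (certOK 1) (((qSeqs 5).drop 16).take 16) 16 = true := by
  decide +kernel

theorem cert10_2 : allFrom (certOK 1) (((qSeqs 5).drop 32).take 16) 32 = true := by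
  decide +kernel

theorem cert10_3 : allFrom (certOK 1) (((qSeqs 5).drop 48).take 16) 48 = true := by
  decide +kernel

theorem cert10_4 : allFrom (certOK 1) (((qSeqs 5).drop 64).take 16) 64 = true := by
  decide +kernel

theorem cert10_5 : allFrom (certOK 1) (((qSeqs 5).drop 80).take 16) 80 = true := by
  decide +kernel

theorem cert10_6 : allFrom (certOK 1) (((qSeqs 5).drop 96).take 16) 96 = true := by
  decide +kernel

theorem cert10_7 : allFrom (certOK 1) (((qSeqs 5).drop 112).take 16) 112 = true := by
  decide +kernel

theorem cert10_8 : allFrom (certOK 1) (((qSeqs 5).drop 128).take 16) 128 = true := by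
  decide +kernel

theorem cert10_9 : allFrom (certOK 1) (((qSeqs 5).drop 144).take 16) 144 = true := by
  decide +kernel

theorem cert10_10 : allFrom (certOK 1) (((qSeqs 5).drop 160).take 16) 160 = true := by
  decide +kernel

theorem cert10_11 : allFrom (certOK 1) (((qSeqs 5).drop 176).take 16) 176 = true := by
  decide +kernel

theorem cert10_12 : allFrom (certOK 1) (((qSeqs 5).drop 192).take 16) 192 = true := by
  decide +kernel

theorem cert10_13 : allFrom (certOK 1) (((qSeqs 5).drop 208).take 16) 208 = true := by
  decide +kernel

theorem cert10_14 : allFrom (certOK 1) (((qSeqs 5).drop 224).take 16) 224 = true := by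
  decide +kernel

theorem cert10_15 : allFrom (certOK 1) (((qSeqs 5).drop 240).take 16) 240 = true := by
  decide +kernel

theorem cert10_16 : allFrom (certOK 1) (((qSeqs 5).drop 256).take 16) 256 = true := by
  decide +kernel

theorem cert10_17 : allFrom (certOK 1) (((qSeqs 5).drop 272).take 16) 272 = true := by
  decide +kernel

theorem cert10_18 : allFrom (certOK 1) (((qSeqs 5).drop 288).take 16) 288 = true := by
  decide +kernel

theorem cert10_19 : allFrom (certOK 1) (((qSeqs 5).drop 304).take 16) 304 = true := by
  decide +kernel

theorem cert10_20 : allFrom (certOK 1) (((qSeqs 5).drop 320).take 16) 320 = true := by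
  decide +kernel

theorem cert10_21 : allFrom (certOK 1) (((qSeqs 5).drop 336).take 16) 336 = true := by
  decide +kernel

theorem cert10_22 : allFrom (certOK 1) (((qSeqs 5).drop 352).take 16) 352 = true := by
  decide +kernel

theorem cert10_23 : allFrom (certOK 1) (((qSeqs 5).drop 368).take 16) 368 = true := by
  decide +kernel

theorem cert10_24 : allFrom (certOK 1) (((qSeqs 5).drop 384).take 16) 384 = true := by
  decide +kernel

theorem cert10_25 : allFrom (certOK 1) (((qSeqs 5).drop 400).take 16) 400 = true := by
  decide +kernel

theorem cert10_26 : allFrom (certOK 1) (((qSeqs 5).drop 416).take 16) 416 = true := by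
  decide +kernel

theorem cert10_27 : allFrom (certOK 1) (((qSeqs 5).drop 432).take 16) 432 = true := by
  decide +kernel

theorem cert10_28 : allFrom (certOK 1) (((qSeqs 5).drop 448).take 16) 448 = true := by
  decide +kernel

theorem cert10_29 : allFrom (certOK 1) (((qSeqs 5).drop 464).take 16) 464 = true := by
  decide +kernel

theorem cert10_30 : allFrom (certOK 1) (((qSeqs 5).drop 480).take 16) 480 = true := by
  decide +kernel

theorem cert10_31 : allFrom (certOK 1) (((qSeqs 5).drop 496).take 16) 496 = true := by
  decide +kernel

theorem cert10 : certPart 1 0 = true := by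
  refine certPart_of_pieces 1 0 fun k hk => ?_
  interval_cases k
  · exact cert10_0
  · exact cert10_1
  · exact cert10_2
  · exact cert10_3
  · exact cert10_4
  · exact cert10_5
  · exact cert10_6
  · exact cert10_7
  · exact cert10_8
  · exact cert10_9
  · exact cert10_10
  · exact cert10_11
  · exact cert10_12
  · exact cert10_13
  · exact cert10_14
  · exact cert10_15
  · exact cert10_16
  · exact cert10_17
  · exact cert10_18
  · exact cert10_19
  · exact cert10_20
  · exact cert10_21
  · exact cert10_22
  · exact cert10_23
  · exact cert10_24
  · exact cert10_25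
  · exact cert10_26
  · exact cert10_27
  · exact cert10_28
  · exact cert10_29
  · exact cert10_30
  · exact cert10_31

end CfsgLib.Recog.SporBound.Fi22Outer
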