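import Cfsg.Agent.Lib.Recog.SporBound.Fi22Outer.Cert.Split

set_option autoImplicit false
set_option maxRecDepth 20000
set_option Elab.async false

/-! Kernel check of quarter 1 of the classes of outer involutions of Fi22 over root 1 (owner: helper24, split by helper18). -/

namespace CfsgLib.Recog.SporBound.Fi22Outer

theorem cert11_0 : allFrom (certOK 1) (((qSeqs 5).drop 512).take 16) 512 = true := by
  decide +kernel

theorem cert11_1 : allFrom (certOK 1) (((qSeqs 5).drop 528).take 16) 528 = true := by
  decide +kernel

theorem cert11_2 : allFrom (certOK 1) (((qSeqs 5).drop 544).take 16) 544 = true := by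
  decide +kernel

theorem cert11_3 : allFrom (certOK 1) (((qSeqs 5).drop 560).take 16) 560 = true := by
  decide +kernel

theorem cert11_4 : allFrom (certOK 1) (((qSeqs 5).drop 576).take 16) 576 = true := by
  decide +kernel

theorem cert11_5 : allFrom (certOK 1) (((qSeqs 5).drop 592).take 16) 592 = true := by
  decide +kernel

theorem cert11_6 : allFrom (certOK 1) (((qSeqs 5).drop 608).take 16) 608 = true := by
  decide +kernel

theorem cert11_7 : allFrom (certOK 1) (((qSeqs 5).drop 624).take 16) 624 = true := by
  decide +kernel

theorem cert11_8 : allFrom (certOK 1) (((qSeqs 5).drop 640).take 16) 640 = true := by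
  decide +kernel

theorem cert11_9 : allFrom (certOK 1) (((qSeqs 5).drop 656).take 16) 656 = true := by
  decide +kernel

theorem cert11_10 : allFrom (certOK 1) (((qSeqs 5).drop 672).take 16) 672 = true := by
  decide +kernel

theorem cert11_11 : allFrom (certOK 1) (((qSeqs 5).drop 688).take 16) 688 = true := by
  decide +kernel

theorem cert11_12 : allFrom (certOK 1) (((qSeqs 5).drop 704).take 16) 704 = true := by
  decide +kernel

theorem cert11_13 : allFrom (certOK 1) (((qSeqs 5).drop 720).take 16) 720 = true := by
  decide +kernel

theorem cert11_14 : allFrom (certOK 1) (((qSeqs 5).drop 736).take 16) 736 = true := by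
  decide +kernel

theorem cert11_15 : allFrom (certOK 1) (((qSeqs 5).drop 752).take 16) 752 = true := by
  decide +kernel

theorem cert11_16 : allFrom (certOK 1) (((qSeqs 5).drop 768).take 16) 768 = true := by
  decide +kernel

theorem cert11_17 : allFrom (certOK 1) (((qSeqs 5).drop 784).take 16) 784 = true := by
  decide +kernel

theorem cert11_18 : allFrom (certOK 1) (((qSeqs 5).drop 800).take 16) 800 = true := by
  decide +kernel

theorem cert11_19 : allFrom (certOK 1) (((qSeqs 5).drop 816).take 16) 816 = true := by
  decide +kernel

theorem cert11_20 : allFrom (certOK 1) (((qSeqs 5).drop 832).take 16) 832 = true := by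
  decide +kernel

theorem cert11_21 : allFrom (certOK 1) (((qSeqs 5).drop 848).take 16) 848 = true := by
  decide +kernel

theorem cert11_22 : allFrom (certOK 1) (((qSeqs 5).drop 864).take 16) 864 = true := by
  decide +kernel

theorem cert11_23 : allFrom (certOK 1) (((qSeqs 5).drop 880).take 16) 880 = true := by
  decide +kernel

theorem cert11_24 : allFrom (certOK 1) (((qSeqs 5).drop 896).take 16) 896 = true := by
  decide +kernel

theorem cert11_25 : allFrom (certOK 1) (((qSeqs 5).drop 912).take 16) 912 = true := by
  decide +kernel

theorem cert11_26 : allFrom (certOK 1) (((qSeqs 5).drop 928).take 16) 928 = true := by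
  decide +kernel

theorem cert11_27 : allFrom (certOK 1) (((qSeqs 5).drop 944).take 16) 944 = true := by
  decide +kernel

theorem cert11_28 : allFrom (certOK 1) (((qSeqs 5).drop 960).take 16) 960 = true := by
  decide +kernel

theorem cert11_29 : allFrom (certOK 1) (((qSeqs 5).drop 976).take 16) 976 = true := by
  decide +kernel

theorem cert11_30 : allFrom (certOK 1) (((qSeqs 5).drop 992).take 16) 992 = true := by
  decide +kernel

theorem cert11_31 : allFrom (certOK 1) (((qSeqs 5).drop 1008).take 16) 1008 = true := by
  decide +kernel

theorem cert11 : certPart 1 1 = true := by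
  refine certPart_of_pieces 1 1 fun k hk => ?_
  interval_cases k
  · exact cert11_0
  · exact cert11_1
  · exact cert11_2
  · exact cert11_3
  · exact cert11_4
  · exact cert11_5
  · exact cert11_6
  · exact cert11_7
  · exact cert11_8
  · exact cert11_9
  · exact cert11_10
  · exact cert11_11
  · exact cert11_12
  · exact cert11_13
  · exact cert11_14
  · exact cert11_15
  · exact cert11_16
  · exact cert11_17
  · exact cert11_18
  · exact cert11_19
  · exact cert11_20
  · exact cert11_21
  · exact cert11_22
  · exact cert11_23
  · exact cert11_24
  · exact cert11_25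
  · exact cert11_26
  · exact cert11_27
  · exact cert11_28
  · exact cert11_29
  · exact cert11_30
  · exact cert11_31

end CfsgLib.Recog.SporBound.Fi22Outer
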