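import Cfsg.Agent.Lib.Recog.SporBound.Fi22Outer.Cert.Split

set_option autoImplicit false
set_option maxRecDepth 20000
set_option Elab.async false

/-! Kernel check of quarter 2 of the classes of outer involutions of Fi22 over root 1 (owner: helper24, split by helper18). -/

namespace CfsgLib.Recog.SporBound.Fi22Outer

theorem cert12_0 : allFrom (certOK 1) (((qSeqs 5).drop 1024).take 16) 1024 = true := by
  decide +kernel

theorem cert12_1 : allFrom (certOK 1) (((qSeqs 5).drop 1040).take 16) 1040 = true := by
  decide +kernel

theorem cert12_2 : allFrom (certOK 1) (((qSeqs 5).drop 1056).take 16) 1056 = true := by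
  decide +kernel

theorem cert12_3 : allFrom (certOK 1) (((qSeqs 5).drop 1072).take 16) 1072 = true := by
  decide +kernel

theorem cert12_4 : allFrom (certOK 1) (((qSeqs 5).drop 1088).take 16) 1088 = true := by
  decide +kernel

theorem cert12_5 : allFrom (certOK 1) (((qSeqs 5).drop 1104).take 16) 1104 = true := by
  decide +kernel

theorem cert12_6 : allFrom (certOK 1) (((qSeqs 5).drop 1120).take 16) 1120 = true := by
  decide +kernel

theorem cert12_7 : allFrom (certOK 1) (((qSeqs 5).drop 1136).take 16) 1136 = true := by
  decide +kernel

theorem cert12_8 : allFrom (certOK 1) (((qSeqs 5).drop 1152).take 16) 1152 = true := by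
  decide +kernel

theorem cert12_9 : allFrom (certOK 1) (((qSeqs 5).drop 1168).take 16) 1168 = true := by
  decide +kernel

theorem cert12_10 : allFrom (certOK 1) (((qSeqs 5).drop 1184).take 16) 1184 = true := by
  decide +kernel

theorem cert12_11 : allFrom (certOK 1) (((qSeqs 5).drop 1200).take 16) 1200 = true := by
  decide +kernel

theorem cert12_12 : allFrom (certOK 1) (((qSeqs 5).drop 1216).take 16) 1216 = true := by
  decide +kernel

theorem cert12_13 : allFrom (certOK 1) (((qSeqs 5).drop 1232).take 16) 1232 = true := by
  decide +kernel

theorem cert12_14 : allFrom (certOK 1) (((qSeqs 5).drop 1248).take 16) 1248 = true := by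
  decide +kernel

theorem cert12_15 : allFrom (certOK 1) (((qSeqs 5).drop 1264).take 16) 1264 = true := by
  decide +kernel

theorem cert12_16 : allFrom (certOK 1) (((qSeqs 5).drop 1280).take 16) 1280 = true := by
  decide +kernel

theorem cert12_17 : allFrom (certOK 1) (((qSeqs 5).drop 1296).take 16) 1296 = true := by
  decide +kernel

theorem cert12_18 : allFrom (certOK 1) (((qSeqs 5).drop 1312).take 16) 1312 = true := by
  decide +kernel

theorem cert12_19 : allFrom (certOK 1) (((qSeqs 5).drop 1328).take 16) 1328 = true := by
  decide +kernel

theorem cert12_20 : allFrom (certOK 1) (((qSeqs 5).drop 1344).take 16) 1344 = true := by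
  decide +kernel

theorem cert12_21 : allFrom (certOK 1) (((qSeqs 5).drop 1360).take 16) 1360 = true := by
  decide +kernel

theorem cert12_22 : allFrom (certOK 1) (((qSeqs 5).drop 1376).take 16) 1376 = true := by
  decide +kernel

theorem cert12_23 : allFrom (certOK 1) (((qSeqs 5).drop 1392).take 16) 1392 = true := by
  decide +kernel

theorem cert12_24 : allFrom (certOK 1) (((qSeqs 5).drop 1408).take 16) 1408 = true := by
  decide +kernel

theorem cert12_25 : allFrom (certOK 1) (((qSeqs 5).drop 1424).take 16) 1424 = true := by
  decide +kernel

theorem cert12_26 : allFrom (certOK 1) (((qSeqs 5).drop 1440).take 16) 1440 = true := by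
  decide +kernel

theorem cert12_27 : allFrom (certOK 1) (((qSeqs 5).drop 1456).take 16) 1456 = true := by
  decide +kernel

theorem cert12_28 : allFrom (certOK 1) (((qSeqs 5).drop 1472).take 16) 1472 = true := by
  decide +kernel

theorem cert12_29 : allFrom (certOK 1) (((qSeqs 5).drop 1488).take 16) 1488 = true := by
  decide +kernel

theorem cert12_30 : allFrom (certOK 1) (((qSeqs 5).drop 1504).take 16) 1504 = true := by
  decide +kernel

theorem cert12_31 : allFrom (certOK 1) (((qSeqs 5).drop 1520).take 16) 1520 = true := by
  decide +kernel

theorem cert12 : certPart 1 2 = true := by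
  refine certPart_of_pieces 1 2 fun k hk => ?_
  interval_cases k
  · exact cert12_0
  · exact cert12_1
  · exact cert12_2
  · exact cert12_3
  · exact cert12_4
  · exact cert12_5
  · exact cert12_6
  · exact cert12_7
  · exact cert12_8
  · exact cert12_9
  · exact cert12_10
  · exact cert12_11
  · exact cert12_12
  · exact cert12_13
  · exact cert12_14
  · exact cert12_15
  · exact cert12_16
  · exact cert12_17
  · exact cert12_18
  · exact cert12_19
  · exact cert12_20
  · exact cert12_21
  · exact cert12_22
  · exact cert12_23
  · exact cert12_24
  · exact cert12_25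
  · exact cert12_26
  · exact cert12_27
  · exact cert12_28
  · exact cert12_29
  · exact cert12_30
  · exact cert12_31

end CfsgLib.Recog.SporBound.Fi22Outer
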