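import Cfsg.Agent.Lib.Recog.SporBound.Fi22Outer.Cert.Split

set_option autoImplicit false
set_option maxRecDepth 20000
set_option Elab.async false

/-! Kernel check of quarter 3 of the classes of outer involutions of Fi22 over root 1 (owner: helper24, split by helper18). -/

namespace CfsgLib.Recog.SporBound.Fi22Outer

theorem cert13_0 : allFrom (certOK 1) (((qSeqs 5).drop 1536).take 16) 1536 = true := by
  decide +kernel

theorem cert13_1 : allFrom (certOK 1) (((qSeqs 5).drop 1552).take 16) 1552 = true := by
  decide +kernel

theorem cert13_2 : allFrom (certOK 1) (((qSeqs 5).drop 1568).take 16) 1568 = true := by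
  decide +kernel

theorem cert13_3 : allFrom (certOK 1) (((qSeqs 5).drop 1584).take 16) 1584 = true := by
  decide +kernel

theorem cert13_4 : allFrom (certOK 1) (((qSeqs 5).drop 1600).take 16) 1600 = true := by
  decide +kernel

theorem cert13_5 : allFrom (certOK 1) (((qSeqs 5).drop 1616).take 16) 1616 = true := by
  decide +kernel

theorem cert13_6 : allFrom (certOK 1) (((qSeqs 5).drop 1632).take 16) 1632 = true := by
  decide +kernel

theorem cert13_7 : allFrom (certOK 1) (((qSeqs 5).drop 1648).take 16) 1648 = true := by
  decide +kernel

theorem cert13_8 : allFrom (certOK 1) (((qSeqs 5).drop 1664).take 16) 1664 = true := by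
  decide +kernel

theorem cert13_9 : allFrom (certOK 1) (((qSeqs 5).drop 1680).take 16) 1680 = true := by
  decide +kernel

theorem cert13_10 : allFrom (certOK 1) (((qSeqs 5).drop 1696).take 16) 1696 = true := by
  decide +kernel

theorem cert13_11 : allFrom (certOK 1) (((qSeqs 5).drop 1712).take 16) 1712 = true := by
  decide +kernel

theorem cert13_12 : allFrom (certOK 1) (((qSeqs 5).drop 1728).take 16) 1728 = true := by
  decide +kernel

theorem cert13_13 : allFrom (certOK 1) (((qSeqs 5).drop 1744).take 16) 1744 = true := by
  decide +kernel

theorem cert13_14 : allFrom (certOK 1) (((qSeqs 5).drop 1760).take 16) 1760 = true := by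
  decide +kernel

theorem cert13_15 : allFrom (certOK 1) (((qSeqs 5).drop 1776).take 16) 1776 = true := by
  decide +kernel

theorem cert13_16 : allFrom (certOK 1) (((qSeqs 5).drop 1792).take 16) 1792 = true := by
  decide +kernel

theorem cert13_17 : allFrom (certOK 1) (((qSeqs 5).drop 1808).take 16) 1808 = true := by
  decide +kernel

theorem cert13_18 : allFrom (certOK 1) (((qSeqs 5).drop 1824).take 16) 1824 = true := by
  decide +kernel

theorem cert13_19 : allFrom (certOK 1) (((qSeqs 5).drop 1840).take 16) 1840 = true := by
  decide +kernel

theorem cert13_20 : allFrom (certOK 1) (((qSeqs 5).drop 1856).take 16) 1856 = true := by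
  decide +kernel

theorem cert13_21 : allFrom (certOK 1) (((qSeqs 5).drop 1872).take 16) 1872 = true := by
  decide +kernel

theorem cert13_22 : allFrom (certOK 1) (((qSeqs 5).drop 1888).take 16) 1888 = true := by
  decide +kernel

theorem cert13_23 : allFrom (certOK 1) (((qSeqs 5).drop 1904).take 16) 1904 = true := by
  decide +kernel

theorem cert13_24 : allFrom (certOK 1) (((qSeqs 5).drop 1920).take 16) 1920 = true := by
  decide +kernel

theorem cert13_25 : allFrom (certOK 1) (((qSeqs 5).drop 1936).take 16) 1936 = true := by
  decide +kernel

theorem cert13_26 : allFrom (certOK 1) (((qSeqs 5).drop 1952).take 16) 1952 = true := by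
  decide +kernel

theorem cert13_27 : allFrom (certOK 1) (((qSeqs 5).drop 1968).take 16) 1968 = true := by
  decide +kernel

theorem cert13_28 : allFrom (certOK 1) (((qSeqs 5).drop 1984).take 16) 1984 = true := by
  decide +kernel

theorem cert13_29 : allFrom (certOK 1) (((qSeqs 5).drop 2000).take 16) 2000 = true := by
  decide +kernel

theorem cert13_30 : allFrom (certOK 1) (((qSeqs 5).drop 2016).take 16) 2016 = true := by
  decide +kernel

theorem cert13_31 : allFrom (certOK 1) (((qSeqs 5).drop 2032).take 16) 2032 = true := by
  decide +kernel

theorem cert13 : certPart 1 3 = true := by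
  refine certPart_of_pieces 1 3 fun k hk => ?_
  interval_cases k
  · exact cert13_0
  · exact cert13_1
  · exact cert13_2
  · exact cert13_3
  · exact cert13_4
  · exact cert13_5
  · exact cert13_6
  · exact cert13_7
  · exact cert13_8
  · exact cert13_9
  · exact cert13_10
  · exact cert13_11
  · exact cert13_12
  · exact cert13_13
  · exact cert13_14
  · exact cert13_15
  · exact cert13_16
  · exact cert13_17
  · exact cert13_18
  · exact cert13_19
  · exact cert13_20
  · exact cert13_21
  · exact cert13_22
  · exact cert13_23
  · exact cert13_24
  · exact cert13_25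
  · exact cert13_26
  · exact cert13_27
  · exact cert13_28
  · exact cert13_29
  · exact cert13_30
  · exact cert13_31

end CfsgLib.Recog.SporBound.Fi22Outer
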