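import Cfsg.Agent.Lib.Recog.SporBound.Fi22Outer.Cert.Split

set_option autoImplicit false
set_option maxRecDepth 20000
set_option Elab.async false

/-! Kernel check of quarter 3 of the classes of outer involutions of Fi22 over root 2 (owner: helper24, split by helper18). -/

namespace CfsgLib.Recog.SporBound.Fi22Outer

theorem cert23_0 : allFrom (certOK 2) (((qSeqs 5).drop 1536).take 16) 1536 = true := by
  decide +kernel

theorem cert23_1 : allFrom (certOK 2) (((qSeqs 5).drop 1552).take 16) 1552 = true := by
  decide +kernel

theorem cert23_2 : allFrom (certOK 2) (((qSeqs 5).drop 1568).take 16) 1568 = true := by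
  decide +kernel

theorem cert23_3 : allFrom (certOK 2) (((qSeqs 5).drop 1584).take 16) 1584 = true := by
  decide +kernel

theorem cert23_4 : allFrom (certOK 2) (((qSeqs 5).drop 1600).take 16) 1600 = true := by
  decide +kernel

theorem cert23_5 : allFrom (certOK 2) (((qSeqs 5).drop 1616).take 16) 1616 = true := by
  decide +kernel

theorem cert23_6 : allFrom (certOK 2) (((qSeqs 5).drop 1632).take 16) 1632 = true := by
  decide +kernel

theorem cert23_7 : allFrom (certOK 2) (((qSeqs 5).drop 1648).take 16) 1648 = true := by
  decide +kernel

theorem cert23_8 : allFrom (certOK 2) (((qSeqs 5).drop 1664).take 16) 1664 = true := by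
  decide +kernel

theorem cert23_9 : allFrom (certOK 2) (((qSeqs 5).drop 1680).take 16) 1680 = true := by
  decide +kernel

theorem cert23_10 : allFrom (certOK 2) (((qSeqs 5).drop 1696).take 16) 1696 = true := by
  decide +kernel

theorem cert23_11 : allFrom (certOK 2) (((qSeqs 5).drop 1712).take 16) 1712 = true := by
  decide +kernel

theorem cert23_12 : allFrom (certOK 2) (((qSeqs 5).drop 1728).take 16) 1728 = true := by
  decide +kernel

theorem cert23_13 : allFrom (certOK 2) (((qSeqs 5).drop 1744).take 16) 1744 = true := by
  decide +kernel

theorem cert23_14 : allFrom (certOK 2) (((qSeqs 5).drop 1760).take 16) 1760 = true := by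
  decide +kernel

theorem cert23_15 : allFrom (certOK 2) (((qSeqs 5).drop 1776).take 16) 1776 = true := by
  decide +kernel

theorem cert23_16 : allFrom (certOK 2) (((qSeqs 5).drop 1792).take 16) 1792 = true := by
  decide +kernel

theorem cert23_17 : allFrom (certOK 2) (((qSeqs 5).drop 1808).take 16) 1808 = true := by
  decide +kernel

theorem cert23_18 : allFrom (certOK 2) (((qSeqs 5).drop 1824).take 16) 1824 = true := by
  decide +kernel

theorem cert23_19 : allFrom (certOK 2) (((qSeqs 5).drop 1840).take 16) 1840 = true := by
  decide +kernel

theorem cert23_20 : allFrom (certOK 2) (((qSeqs 5).drop 1856).take 16) 1856 = true := by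
  decide +kernel

theorem cert23_21 : allFrom (certOK 2) (((qSeqs 5).drop 1872).take 16) 1872 = true := by
  decide +kernel

theorem cert23_22 : allFrom (certOK 2) (((qSeqs 5).drop 1888).take 16) 1888 = true := by
  decide +kernel

theorem cert23_23 : allFrom (certOK 2) (((qSeqs 5).drop 1904).take 16) 1904 = true := by
  decide +kernel

theorem cert23_24 : allFrom (certOK 2) (((qSeqs 5).drop 1920).take 16) 1920 = true := by
  decide +kernel

theorem cert23_25 : allFrom (certOK 2) (((qSeqs 5).drop 1936).take 16) 1936 = true := by
  decide +kernel

theorem cert23_26 : allFrom (certOK 2) (((qSeqs 5).drop 1952).take 16) 1952 = true := by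
  decide +kernel

theorem cert23_27 : allFrom (certOK 2) (((qSeqs 5).drop 1968).take 16) 1968 = true := by
  decide +kernel

theorem cert23_28 : allFrom (certOK 2) (((qSeqs 5).drop 1984).take 16) 1984 = true := by
  decide +kernel

theorem cert23_29 : allFrom (certOK 2) (((qSeqs 5).drop 2000).take 16) 2000 = true := by
  decide +kernel

theorem cert23_30 : allFrom (certOK 2) (((qSeqs 5).drop 2016).take 16) 2016 = true := by
  decide +kernel

theorem cert23_31 : allFrom (certOK 2) (((qSeqs 5).drop 2032).take 16) 2032 = true := by
  decide +kernel

theorem cert23 : certPart 2 3 = true := by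
  refine certPart_of_pieces 2 3 fun k hk => ?_
  interval_cases k
  · exact cert23_0
  · exact cert23_1
  · exact cert23_2
  · exact cert23_3
  · exact cert23_4
  · exact cert23_5
  · exact cert23_6
  · exact cert23_7
  · exact cert23_8
  · exact cert23_9
  · exact cert23_10
  · exact cert23_11
  · exact cert23_12
  · exact cert23_13
  · exact cert23_14
  · exact cert23_15
  · exact cert23_16
  · exact cert23_17
  · exact cert23_18
  · exact cert23_19
  · exact cert23_20
  · exact cert23_21
  · exact cert23_22
  · exact cert23_23
  · exact cert23_24
  · exact cert23_25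
  · exact cert23_26
  · exact cert23_27
  · exact cert23_28
  · exact cert23_29
  · exact cert23_30
  · exact cert23_31

end CfsgLib.Recog.SporBound.Fi22Outer
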