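import Cfsg.Agent.Lib.Recog.SporBound.Fi22Outer.Checks

set_option autoImplicit false

/-! Splitting the check of the classes of outer involutions into small pieces. -/

namespace CfsgLib.Recog.SporBound.Fi22Outer

theorem allFrom_append (f : ℕ → List (Bool × List ℕ) → Bool) : ∀ (l l' : List (List (Bool × List ℕ))) (k : ℕ),
    allFrom f l k = true → allFrom f l' (k + l.length) = true → allFrom f (l ++ l') k = true
  | [], _, _, _, h => by simpa using h
  | q :: l, l', k, h, h' => by
    simp only [allFrom, Bool.and_eq_true] at h
    simp only [List.cons_append, allFrom, Bool.and_eq_true]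
    exact ⟨h.1, allFrom_append f l l' (k + 1) h.2
      (by rwa [List.length_cons, Nat.add_comm l.length 1, ← Nat.add_assoc] at h')⟩

/-- Thirty-two pieces of sixteen give a quarter of the check. -/
theorem certPart_of_pieces (i j : ℕ)
    (h : ∀ k < 32, allFrom (certOK i) (((qSeqs 5).drop (512 * j + 16 * k)).take 16) (512 * j + 16 * k) = true) :
    certPart i j = true := by
  have key : ∀ n ≤ 32, allFrom (certOK i) (((qSeqs 5).drop (512 * j)).take (16 * n)) (512 * j) = true := by
    intro n
    induction n with
    | zero => intro _; rfl
    | succ n ih =>
      intro hn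
      rw [Nat.mul_succ, List.take_add, List.drop_drop]
      refine allFrom_append _ _ _ _ (ih (by omega)) ?_
      by_cases hl : (((qSeqs 5).drop (512 * j)).take (16 * n)).length = 16 * n
      · rw [hl]; exact h n (by omega)
      · rw [List.length_take, List.length_drop] at hl
        rw [List.drop_eq_nil_of_le (by omega)]
        rfl
  exact key 32 le_rfl

end CfsgLib.Recog.SporBound.Fi22Outer
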